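import Groth.Agent.DynSm.Smooth
import Groth.Agent.S3694
import Mathlib.AlgebraicGeometry.Morphisms.Etale
import Mathlib.RingTheory.Etale.Basic
import Mathlib.AlgebraicGeometry.GammaSpecAdjunction

/-! The open cell of a smooth affine group over any base ring. -/

set_option backward.isDefEq.respectTransparency false
set_option backward.isDefEq.respectTransparency.types false

universe u

open LaurentPolynomial TensorProduct WithConv CategoryTheory AlgebraicGeometry

namespace Groth.Agent.DynSm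

open DynLib

variable {k : Type u} [CommRing k] {A : Type u} [CommRing A] [HopfAlgebra k A]

theorem eq_of_dlt_wpr (lam : A →ₐc[k] k[T;T⁻¹]) {R : Type u} [CommRing R] [Algebra k R]
    {x y : WithConv (A →ₐ[k] R)} (h : ∀ n a, dlt x (wpr lam n a) = dlt y (wpr lam n a)) : x = y := by
  refine eq_of_dlt_eq fun a => ?_
  have ha : a = ∑ n ∈ (orbit lam a).coeff.support, wpr lam n a := by
    have h1 := DFunLike.congr_fun (congrArg WithConv.ofConv (ev1_conjHom lam (toConv (AlgHom.id k A)))) a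
    simp only [ofConv_toConv, AlgHom.id_apply] at h1
    conv_lhs => rw [← h1]
    show ev1 k A ((conjHom lam A (toConv (AlgHom.id k A))).ofConv a) = _
    rw [← conjOrbit_eq]
    conv_lhs => rw [← AddMonoidAlgebra.sum_single (Dyn.conjOrbit k A lam A (AlgHom.id k A) a), Finsupp.sum]
    rw [map_sum]
    exact Finset.sum_congr rfl fun n _ => ev1_single _ _
  rw [ha, map_sum, map_sum]
  exact Finset.sum_congr rfl fun n _ => h n a

variable {lam lamNeg : A →ₐc[k] k[T;T⁻¹]} (hneg : (lamNeg : A →ₐ[k] k[T;T⁻¹]) = Dyn.negParam k A lam)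

include hneg in
theorem wpr_neg (n : ℤ) (a : A) : wpr lamNeg n a = wpr lam (-n) a := by
  show (Dyn.conjOrbit k A lamNeg A (AlgHom.id k A) a).coeff n = _
  rw [conjOrbit_neg lam lamNeg hneg]
  simp [invk, wpr]

include hneg in
theorem limIsOne_neg_iff {R : Type u} [CommRing R] [Algebra k R] (g : A →ₐ[k] R) :
    Dyn.LimIsOne k A lamNeg R g ↔ (∀ a (n : ℤ), 0 < n → g (wpr lam n a) = 0) ∧
      ∀ a, g (wpr lam 0 a) = algebraMap k R (Coalgebra.counit a) := by
  rw [limIsOne_iff_wpr]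
  refine and_congr ⟨fun h a n hn => ?_, fun h a n hn => ?_⟩ (forall_congr' fun a => ?_)
  · have := h a (-n) (by omega)
    rwa [wpr_neg hneg, neg_neg] at this
  · rw [wpr_neg hneg]
    exact h a (-n) (by omega)
  · rw [wpr_neg hneg, neg_zero]

/-- A finitely presented formally etale monomorphism of affine schemes, on points. -/
theorem isOpenImmersion_of_points {A B : Type u} [CommRing A] [Algebra k A] [CommRing B] [Algebra k B]
    [Algebra.FiniteType k A] [Algebra.FinitePresentation k B] (φ : A →ₐ[k] B)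
    (hext : ∀ (R : Type u) [CommRing R] [Algebra k R] (θ θ' : B →ₐ[k] R), θ.comp φ = θ'.comp φ → θ = θ')
    (hlift : ∀ (R : Type u) [CommRing R] [Algebra k R] (I : Ideal R), I ^ 2 = ⊥ → ∀ (g : A →ₐ[k] R)
      (f : B →ₐ[k] R ⧸ I), f.comp φ = (Ideal.Quotient.mkₐ k I).comp g →
      ∃ θ : B →ₐ[k] R, θ.comp φ = g ∧ (Ideal.Quotient.mkₐ k I).comp θ = f) :
    IsOpenImmersion (Spec.map (CommRingCat.ofHom φ.toRingHom)) := by
  letI : Algebra A B := φ.toRingHom.toAlgebra
  haveI : IsScalarTower k A B := IsScalarTower.of_algebraMap_eq fun c => (φ.commutes c).symm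
  haveI : Algebra.FinitePresentation A B :=
    Algebra.FinitePresentation.of_restrict_scalars_finitePresentation k A _
  haveI : Algebra.FormallyEtale A B := by
    refine Algebra.FormallyEtale.iff_comp_bijective.mpr fun R _ _ I hI => ?_
    letI : Algebra k R := ((algebraMap A R).comp (algebraMap k A)).toAlgebra
    haveI : IsScalarTower k A R := IsScalarTower.of_algebraMap_eq fun _ => rfl
    constructor
    · intro θ θ' _
      refine AlgHom.restrictScalars_injective k (hext R _ _ (AlgHom.ext fun a => ?_))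
      exact (θ.commutes a).trans (θ'.commutes a).symm
    · intro f
      obtain ⟨θ, hθ, hθf⟩ := hlift R I hI (IsScalarTower.toAlgHom k A R) (f.restrictScalars k)
        (AlgHom.ext fun a => f.commutes a)
      refine ⟨{ θ.toRingHom with commutes' := fun a => DFunLike.congr_fun hθ a }, AlgHom.ext fun x => ?_⟩
      exact DFunLike.congr_fun hθf x
  haveI : Etale (Spec.map (CommRingCat.ofHom φ.toRingHom)) := by
    rw [HasRingHomProperty.Spec_iff (P := @Etale)]
    show (algebraMap A B).Etale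
    rw [RingHom.etale_algebraMap]
    exact ⟨inferInstance, inferInstance⟩
  haveI : Epi (CommRingCat.ofHom φ.toRingHom) := by
    refine ⟨fun {C} g h e => CommRingCat.hom_ext ?_⟩
    have e' : ∀ a, g.hom (φ a) = h.hom (φ a) := fun a =>
      DFunLike.congr_fun (congrArg CommRingCat.Hom.hom e) a
    letI : Algebra k C := (g.hom.comp (algebraMap k B)).toAlgebra
    let θ : B →ₐ[k] C := { g.hom with commutes' := fun _ => rfl }
    let θ' : B →ₐ[k] C :=
      { h.hom with
        commutes' := fun c => ((congrArg h.hom (φ.commutes c)).symm.trans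
          ((e' (algebraMap k A c)).symm.trans (congrArg g.hom (φ.commutes c))) :) }
    exact congrArg AlgHom.toRingHom (hext C θ θ' (AlgHom.ext e'))
  haveI : Mono (Spec.map (CommRingCat.ofHom φ.toRingHom)) := by
    refine ⟨fun {Z} g h e => ext_to_Spec ?_⟩
    have e1 := congrArg (fun m => (Scheme.ΓSpecIso _).inv ≫ m.appTop) e
    simp only [Scheme.Hom.comp_appTop, ← Scheme.ΓSpecIso_inv_naturality_assoc] at e1
    exact (cancel_epi (CommRingCat.ofHom φ.toRingHom)).mp e1
  exact Groth.Agent.S3694.result _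

/-- Multiplication on the cell. -/
noncomputable abbrev cell (Jp Jm : Ideal A) : A →ₐ[k] (A ⧸ Jm) ⊗[k] (A ⧸ Jp) :=
  (Algebra.TensorProduct.map (Ideal.Quotient.mkₐ k Jm) (Ideal.Quotient.mkₐ k Jp)).comp (Bialgebra.comulAlgHom k A)

variable (Jp Jm : Ideal A)

/-- The left tautological point. -/
noncomputable abbrev ptL : A →ₐ[k] (A ⧸ Jm) ⊗[k] (A ⧸ Jp) :=
  (Algebra.TensorProduct.includeLeft : (A ⧸ Jm) →ₐ[k] _).comp (Ideal.Quotient.mkₐ k Jm)

/-- The right tautological point. -/
noncomputable abbrev ptR : A →ₐ[k] (A ⧸ Jm) ⊗[k] (A ⧸ Jp) :=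
  (Algebra.TensorProduct.includeRight : (A ⧸ Jp) →ₐ[k] _).comp (Ideal.Quotient.mkₐ k Jp)

theorem toConv_comp_cell {R : Type u} [CommRing R] [Algebra k R] (θ : (A ⧸ Jm) ⊗[k] (A ⧸ Jp) →ₐ[k] R) :
    toConv (θ.comp (cell Jp Jm)) = toConv (θ.comp (ptL Jp Jm)) * toConv (θ.comp (ptR Jp Jm)) := by
  apply WithConv.ofConv_injective
  ext a
  rw [HopfPtLib.convMul_eval]
  show θ (Algebra.TensorProduct.map _ _ (Coalgebra.comul (R := k) a)) = _
  induction Coalgebra.comul (R := k) a using TensorProduct.induction_on with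
  | zero => simp
  | add x y hx hy => simp only [map_add, hx, hy]
  | tmul x y => simp [ptL, ptR, ← map_mul]

variable {Jp Jm} (hp : Dyn.Represents k A Jp (fun R _ _ g => Dyn.LimExists k A lam R g))
  (hm : Dyn.Represents k A Jm (fun R _ _ g => Dyn.LimIsOne k A lamNeg R g))

include hneg in
theorem eq_one_of_both {R : Type u} [CommRing R] [Algebra k R] {x : WithConv (A →ₐ[k] R)}
    (h1 : Dyn.LimExists k A lam R x.ofConv) (h2 : Dyn.LimIsOne k A lamNeg R x.ofConv) : x = 1 := by
  obtain ⟨hpos, h0⟩ := (limIsOne_neg_iff hneg _).mp h2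
  refine eq_of_dlt_wpr lam fun n a => ?_
  simp only [dlt_apply, AlgHom.convOne_apply, sub_self, counit_wpr]
  rcases lt_trichotomy n 0 with h | h | h
  · rw [(limExists_iff_wpr lam _).mp h1 a n h, if_neg h.ne]; simp
  · subst h; rw [h0]; simp
  · rw [hpos a n h, if_neg h.ne']; simp

include hneg hp hm in
theorem cell_hom_ext {R : Type u} [CommRing R] [Algebra k R] {θ θ' : (A ⧸ Jm) ⊗[k] (A ⧸ Jp) →ₐ[k] R}
    (h : θ.comp (cell Jp Jm) = θ'.comp (cell Jp Jm)) : θ = θ' := by
  have hL : ∀ η : (A ⧸ Jm) ⊗[k] (A ⧸ Jp) →ₐ[k] R, toConv (η.comp (ptL Jp Jm)) ∈ limOneSubgroup lamNeg R :=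
    fun η => (mem_limOneSubgroup lamNeg _).mpr ((hm R _).mp fun a ha => by simp [Ideal.Quotient.eq_zero_iff_mem.mpr ha])
  have hR : ∀ η : (A ⧸ Jm) ⊗[k] (A ⧸ Jp) →ₐ[k] R, toConv (η.comp (ptR Jp Jm)) ∈ limSubgroup lam R :=
    fun η => (mem_limSubgroup lam _).mpr ((hp R _).mp fun a ha => by simp [Ideal.Quotient.eq_zero_iff_mem.mpr ha])
  have e := congrArg toConv h
  rw [toConv_comp_cell, toConv_comp_cell] at e
  set u := toConv (θ.comp (ptL Jp Jm))
  set p := toConv (θ.comp (ptR Jp Jm))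
  set u' := toConv (θ'.comp (ptL Jp Jm))
  set p' := toConv (θ'.comp (ptR Jp Jm))
  have e2 : u'⁻¹ * u = p' * p⁻¹ := by
    rw [eq_mul_inv_iff_mul_eq, mul_assoc, e, inv_mul_cancel_left]
  have h1 : u'⁻¹ * u = 1 := by
    refine eq_one_of_both hneg ?_ ?_
    · rw [e2]; exact (mem_limSubgroup lam _).mp (Subgroup.mul_mem _ (hR θ') (Subgroup.inv_mem _ (hR θ)))
    · exact (mem_limOneSubgroup lamNeg _).mp (Subgroup.mul_mem _ (Subgroup.inv_mem _ (hL θ')) (hL θ))
  have hu : u = u' := (inv_mul_eq_one.mp h1).symm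
  have hp' : p = p' := by rw [hu] at e; exact mul_left_cancel e
  refine Algebra.TensorProduct.ext ?_ ?_
  · exact (AlgHom.cancel_right (Ideal.Quotient.mkₐ_surjective k Jm)).mp
      (by rw [AlgHom.comp_assoc, AlgHom.comp_assoc]; exact congrArg WithConv.ofConv hu)
  · exact (AlgHom.cancel_right (Ideal.Quotient.mkₐ_surjective k Jp)).mp
      (by rw [AlgHom.comp_assoc, AlgHom.comp_assoc]; exact congrArg WithConv.ofConv hp')

include hneg hp hm in
theorem exists_cell_lift [Algebra.FormallySmooth k A] {R : Type u} [CommRing R] [Algebra k R] (I : Ideal R)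
    (hI : I ^ 2 = ⊥) (g : A →ₐ[k] R) (f : (A ⧸ Jm) ⊗[k] (A ⧸ Jp) →ₐ[k] R ⧸ I)
    (hf : f.comp (cell Jp Jm) = (Ideal.Quotient.mkₐ k I).comp g) :
    ∃ θ : (A ⧸ Jm) ⊗[k] (A ⧸ Jp) →ₐ[k] R, θ.comp (cell Jp Jm) = g ∧ (Ideal.Quotient.mkₐ k I).comp θ = f := by
  let q := Ideal.Quotient.mkₐ k I
  have hq : SqZero q := fun x y hx hy => by
    rw [← Submodule.mem_bot R, ← hI, pow_two]
    exact Ideal.mul_mem_mul (Ideal.Quotient.eq_zero_iff_mem.mp hx) (Ideal.Quotient.eq_zero_iff_mem.mp hy)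
  obtain ⟨u, hu, huq⟩ := exists_limIsOne_lift lamNeg I hI (f.comp (ptL Jp Jm))
    ((hm _ _).mp fun a ha => by simp [Ideal.Quotient.eq_zero_iff_mem.mpr ha])
  obtain ⟨p, hpp, hpq⟩ := exists_limExists_lift lam I hI (f.comp (ptR Jp Jm))
    ((hp _ _).mp fun a ha => by simp [Ideal.Quotient.eq_zero_iff_mem.mpr ha])
  let κ := (toConv u)⁻¹ * toConv g * (toConv p)⁻¹
  have hκ : post q κ = 1 := by
    rw [map_mul, map_mul, map_inv, map_inv, post_apply, post_apply, post_apply, huq, hpq, ← hf, toConv_comp_cell,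
      mul_assoc, mul_assoc, mul_inv_cancel, mul_one, inv_mul_cancel]
  obtain ⟨y₁, hy₁, hd₁⟩ := exists_split lam hq (fun n => n < 0) hκ
  obtain ⟨y₂, hy₂, hd₂⟩ := exists_split lam hq (fun n => ¬ n < 0) hκ
  have hy : y₁ * y₂ = κ := eq_of_dlt_wpr lam fun n a => by
    rw [dlt_mul hq hy₁ hy₂, hd₁, hd₂]
    by_cases h : n < 0 <;> simp [h]
  have hval : ∀ (y : WithConv (A →ₐ[k] R)) n a, dlt y (wpr lam n a) = 0 →
      y.ofConv (wpr lam n a) = if n = 0 then algebraMap k R (Coalgebra.counit a) else 0 := by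
    intro y n a h
    rw [dlt_apply, counit_wpr, sub_eq_zero] at h
    rw [h]; split <;> simp
  have hy₁m : y₁ ∈ limOneSubgroup lamNeg R := (mem_limOneSubgroup lamNeg _).mpr ((limIsOne_neg_iff hneg _).mpr
    ⟨fun a n hn => (hval y₁ n a (by rw [hd₁, if_neg (by omega)])).trans (if_neg hn.ne'),
      fun a => (hval y₁ 0 a (by rw [hd₁, if_neg (by omega)])).trans (if_pos rfl)⟩)
  have hy₂m : y₂ ∈ limSubgroup lam R := (mem_limSubgroup lam _).mpr ((limExists_iff_wpr lam _).mpr
    fun a n hn => (hval y₂ n a (by rw [hd₂, if_neg (not_not.mpr hn)])).trans (if_neg hn.ne))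
  have hu' : toConv u * y₁ ∈ limOneSubgroup lamNeg R :=
    Subgroup.mul_mem _ ((mem_limOneSubgroup lamNeg _).mpr hu) hy₁m
  have hp' : y₂ * toConv p ∈ limSubgroup lam R :=
    Subgroup.mul_mem _ hy₂m ((mem_limSubgroup lam _).mpr hpp)
  let θ₁ := Ideal.Quotient.liftₐ Jm (toConv u * y₁).ofConv ((hm _ _).mpr ((mem_limOneSubgroup lamNeg _).mp hu'))
  let θ₂ := Ideal.Quotient.liftₐ Jp (y₂ * toConv p).ofConv ((hp _ _).mpr ((mem_limSubgroup lam _).mp hp'))
  let θ := Algebra.TensorProduct.productMap θ₁ θ₂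
  have e1 : toConv (θ.comp (ptL Jp Jm)) = toConv u * y₁ := by
    apply WithConv.ofConv_injective; ext a; simp [θ, θ₁, ptL]
  have e2 : toConv (θ.comp (ptR Jp Jm)) = y₂ * toConv p := by
    apply WithConv.ofConv_injective; ext a; simp [θ, θ₂, ptR]
  have hθ : θ.comp (cell Jp Jm) = g := by
    have : toConv (θ.comp (cell Jp Jm)) = toConv g := by
      rw [toConv_comp_cell, e1, e2, ← mul_assoc, mul_assoc (toConv u), hy]
      simp [κ, mul_assoc]
    exact congrArg WithConv.ofConv this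
  refine ⟨θ, hθ, ?_⟩
  have h1 : post q (toConv (θ.comp (ptL Jp Jm))) = toConv (f.comp (ptL Jp Jm)) := by
    rw [e1, map_mul, hy₁, mul_one]; exact congrArg toConv huq
  have h2 : post q (toConv (θ.comp (ptR Jp Jm))) = toConv (f.comp (ptR Jp Jm)) := by
    rw [e2, map_mul, hy₂, one_mul]; exact congrArg toConv hpq
  refine cell_hom_ext hneg hp hm ?_
  rw [AlgHom.comp_assoc, hθ, hf]

include hneg hp hm in
theorem isOpenImmersion_cell [Algebra.Smooth k A] :
    IsOpenImmersion (Spec.map (CommRingCat.ofHom (cell (k := k) Jp Jm).toRingHom)) := by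
  haveI : Algebra.FinitePresentation k (A ⧸ Jp) := by
    rw [eq_of_represents hp (represents_idealP lam)]
    exact Algebra.FinitePresentation.quotient (fg_idealP lam)
  haveI : Algebra.FinitePresentation k (A ⧸ Jm) := by
    rw [eq_of_represents hm (represents_idealU lamNeg)]
    exact Algebra.FinitePresentation.quotient (fg_idealU lamNeg)
  haveI : Algebra.FinitePresentation k ((A ⧸ Jm) ⊗[k] (A ⧸ Jp)) :=
    Algebra.FinitePresentation.trans k (A ⧸ Jm) _
  exact isOpenImmersion_of_points (cell (k := k) Jp Jm) (fun _ _ _ _ _ h => cell_hom_ext hneg hp hm h)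
    fun _ _ _ I hI g f hf => exists_cell_lift hneg hp hm I hI g f hf

end Groth.Agent.DynSm
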