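import Groth.Agent.DynLib.Levi
import Mathlib.Tactic.LinearCombination

/-! Points in a square-zero kernel and their weight decomposition. -/

universe u

open LaurentPolynomial TensorProduct WithConv

namespace Groth.Agent.DynSm

open DynLib

variable {k : Type u} [CommRing k] {A : Type u} [CommRing A] [HopfAlgebra k A]
  {R R₀ : Type u} [CommRing R] [Algebra k R] [CommRing R₀] [Algebra k R₀]

/-- The kernel of `q` squares to zero. -/
def SqZero (q : R →ₐ[k] R₀) : Prop := ∀ x y : R, q x = 0 → q y = 0 → x * y = 0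

theorem SqZero.mapAlgHom {q : R →ₐ[k] R₀} (hq : SqZero q) :
    SqZero (AddMonoidAlgebra.mapAlgHom ℤ q) := by
  classical
  intro x y hx hy
  ext n
  rw [AddMonoidAlgebra.coeff_mul, AddMonoidAlgebra.coeff_zero, Finsupp.zero_apply]
  refine Finset.sum_eq_zero fun i _ => Finset.sum_eq_zero fun j _ => ?_
  dsimp only
  have hxi : q (x.coeff i) = 0 := by rw [← AddMonoidAlgebra.coeff_mapAlgHom, hx]; rfl
  have hyj : q (y.coeff j) = 0 := by rw [← AddMonoidAlgebra.coeff_mapAlgHom, hy]; rfl
  rw [hq _ _ hxi hyj, ite_self]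

/-- The deviation of a point from the identity. -/
noncomputable def dlt (x : WithConv (A →ₐ[k] R)) : A →ₗ[k] R :=
  x.ofConv.toLinearMap - (Algebra.linearMap k R) ∘ₗ Coalgebra.counit

theorem dlt_apply (x : WithConv (A →ₐ[k] R)) (a : A) :
    dlt x a = x.ofConv a - algebraMap k R (Coalgebra.counit (R := k) a) := rfl

theorem map_dlt_eq_zero {q : R →ₐ[k] R₀} {x : WithConv (A →ₐ[k] R)} (hx : post q x = 1) (a : A) :
    q (dlt x a) = 0 := by
  have h := DFunLike.congr_fun (congrArg WithConv.ofConv hx) a
  rw [dlt_apply, map_sub, AlgHom.commutes, sub_eq_zero]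
  exact h.trans (by simp [AlgHom.convOne_apply])

theorem dlt_mul {q : R →ₐ[k] R₀} (hq : SqZero q) {x y : WithConv (A →ₐ[k] R)} (hx : post q x = 1)
    (hy : post q y = 1) (a : A) : dlt (x * y) a = dlt x a + dlt y a := by
  let e : A →ₗ[k] R := (Algebra.linearMap k R) ∘ₗ Coalgebra.counit
  have hxe : x.ofConv.toLinearMap = e + dlt x := by rw [dlt, add_sub_cancel]
  have hye : y.ofConv.toLinearMap = e + dlt y := by rw [dlt, add_sub_cancel]
  have h := HopfPtLib.convMul_eval x.ofConv y.ofConv a
  rw [hxe, hye, TensorProduct.map_add_left, TensorProduct.map_add_right, TensorProduct.map_add_right,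
    LinearMap.add_apply, LinearMap.add_apply, LinearMap.add_apply, map_add, map_add, map_add] at h
  have z : LinearMap.mul' k R (TensorProduct.map (dlt x) (dlt y) (Coalgebra.comul (R := k) a)) = 0 := by
    induction Coalgebra.comul (R := k) a using TensorProduct.induction_on with
    | zero => simp
    | tmul p q' => simp [hq _ _ (map_dlt_eq_zero hx p) (map_dlt_eq_zero hy q')]
    | add p q' hp hq' => simp only [map_add, hp, hq', add_zero]
  have hl : ∀ f : A →ₗ[k] R, LinearMap.mul' k R (TensorProduct.map e f (Coalgebra.comul (R := k) a)) = f a := by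
    intro f
    rw [show TensorProduct.map e f = TensorProduct.map (Algebra.linearMap k R) f ∘ₗ (Coalgebra.counit (R := k)).rTensor A by
      ext p q; simp [e], LinearMap.comp_apply, Coalgebra.rTensor_counit_comul]
    simp
  have hr : ∀ f : A →ₗ[k] R, LinearMap.mul' k R (TensorProduct.map f e (Coalgebra.comul (R := k) a)) = f a := by
    intro f
    rw [show TensorProduct.map f e = TensorProduct.map f (Algebra.linearMap k R) ∘ₗ (Coalgebra.counit (R := k)).lTensor A by
      ext p q; simp [e], LinearMap.comp_apply, Coalgebra.lTensor_counit_comul]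
    simp
  rw [hl, hl, hr, z, add_zero] at h
  have h' : (x * y).ofConv a = e a + dlt y a + dlt x a := h
  rw [dlt_apply, h']
  simp [e]; ring

theorem eq_of_dlt_eq {x y : WithConv (A →ₐ[k] R)} (h : ∀ a, dlt x a = dlt y a) : x = y := by
  apply WithConv.ofConv_injective
  ext a
  simpa [dlt_apply] using h a

/-- Changing the deviation by a linear map keeps a point a point. -/
theorem exists_near {S S₀ : Type u} [CommRing S] [Algebra k S] [CommRing S₀] [Algebra k S₀] {q : R →ₐ[k] R₀}
    (hq : SqZero q) {p : S →ₐ[k] S₀} (hp : SqZero p) (L : R →ₗ[k] S) (hL : ∀ r, q r = 0 → p (L r) = 0)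
    {x : WithConv (A →ₐ[k] R)} (hx : post q x = 1) :
    ∃ y : WithConv (A →ₐ[k] S), post p y = 1 ∧ ∀ a, dlt y a = L (dlt x a) := by
  have hd : ∀ a b, dlt x (a * b) = algebraMap k R (Coalgebra.counit (R := k) a) * dlt x b +
      algebraMap k R (Coalgebra.counit (R := k) b) * dlt x a := by
    intro a b
    have h := hq _ _ (map_dlt_eq_zero hx a) (map_dlt_eq_zero hx b)
    simp only [dlt_apply] at h ⊢
    rw [map_mul, Bialgebra.counit_mul, map_mul]
    linear_combination h
  have hd1 : dlt x 1 = 0 := by simp [dlt_apply, Bialgebra.counit_one]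
  let f : A →ₗ[k] S := (Algebra.linearMap k S) ∘ₗ Coalgebra.counit + L ∘ₗ dlt x
  let y : A →ₐ[k] S := AlgHom.ofLinearMap f (by simp [f, hd1, Bialgebra.counit_one]) fun a b => by
    have h := hp _ _ (hL _ (map_dlt_eq_zero hx a)) (hL _ (map_dlt_eq_zero hx b))
    simp only [f, LinearMap.add_apply, LinearMap.comp_apply, Algebra.linearMap_apply, Bialgebra.counit_mul, hd,
      map_add, map_mul, ← Algebra.smul_def, map_smul]
    simp only [Algebra.smul_def]
    linear_combination -h
  refine ⟨toConv y, ?_, fun a => ?_⟩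
  · apply WithConv.ofConv_injective
    ext a
    show p (f a) = _
    simp [f, hL _ (map_dlt_eq_zero hx a), AlgHom.convOne_apply]
  · rw [dlt_apply]
    show f a - _ = _
    simp [f]

variable (lam : A →ₐc[k] k[T;T⁻¹])

/-- The weight projection. -/
noncomputable def wpr (n : ℤ) : A →ₗ[k] A where
  toFun a := (orbit lam a).coeff n
  map_add' a b := by simp
  map_smul' c a := by simp

theorem coeff_conj (g : WithConv (A →ₐ[k] R)) (a : A) (n : ℤ) :
    ((conjHom lam R g).ofConv a).coeff n = g.ofConv (wpr lam n a) := by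
  conv_lhs => rw [show g = toConv g.ofConv from rfl, ← toConv_conjOrbit, ofConv_toConv, coeff_conjOrbit]
  rfl

theorem coeff_algebraMap (r : k) (n : ℤ) :
    (algebraMap k R[T;T⁻¹] r).coeff n = if n = 0 then algebraMap k R r else 0 := by
  rw [IsScalarTower.algebraMap_apply k R R[T;T⁻¹], LaurentPolynomial.algebraMap_apply]
  simp

theorem counit_wpr (n : ℤ) (a : A) :
    Coalgebra.counit (R := k) (wpr lam n a) = if n = 0 then Coalgebra.counit (R := k) a else 0 := by
  have h := coeff_conj lam (1 : WithConv (A →ₐ[k] k)) a n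
  rw [map_one] at h
  simp only [AlgHom.convOne_apply, Algebra.algebraMap_self_apply] at h
  rw [← h, coeff_algebraMap]
  rfl

theorem wpr_wpr (m n : ℤ) (a : A) : wpr lam m (wpr lam n a) = if m = n then wpr lam n a else 0 := by
  have h := congrArg (fun z => ((WithConv.ofConv z a).coeff n).coeff m) (post_psi_conjHom lam (toConv (AlgHom.id k A)))
  have hl : ∀ p : A[T;T⁻¹], ((psi k A p).coeff n).coeff m = if m = n then p.coeff n else 0 := by
    intro p
    induction p using AddMonoidAlgebra.induction_linear with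
    | zero => simp
    | add p q hp hq => simp only [map_add, AddMonoidAlgebra.coeff_add, Finsupp.add_apply, hp, hq]; split <;> simp
    | single l r =>
      rw [psi_single]
      simp only [AddMonoidAlgebra.coeff_single, Finsupp.single_apply]
      split_ifs <;> simp_all [Finsupp.single_apply, -LaurentPolynomial.single_eq_C_mul_T]
  change ((psi k A ((conjHom lam A (toConv (AlgHom.id k A))).ofConv a)).coeff n).coeff m = _ at h
  rw [hl, coeff_conj, coeff_conj, coeff_conj] at h
  exact h.symm

theorem coeff_dlt_conj (g : WithConv (A →ₐ[k] R)) (a : A) (n : ℤ) :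
    (dlt (conjHom lam R g) a).coeff n = dlt g (wpr lam n a) := by
  rw [dlt_apply, dlt_apply, AddMonoidAlgebra.coeff_sub, Finsupp.sub_apply, coeff_conj, coeff_algebraMap, counit_wpr]
  split <;> simp

/-- The sum of the coefficients with degree in a given set. -/
noncomputable def psum (k R : Type u) [CommRing k] [CommRing R] [Algebra k R] (p : ℤ → Prop) [DecidablePred p] :
    R[T;T⁻¹] →ₗ[k] R where
  toFun f := f.coeff.sum fun n r => if p n then r else 0
  map_add' f g := by
    rw [AddMonoidAlgebra.coeff_add]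
    exact Finsupp.sum_add_index' (fun n => ite_self 0) fun n a b => by split <;> simp
  map_smul' c f := by
    rw [AddMonoidAlgebra.coeff_smul, RingHom.id_apply, Finsupp.smul_sum]
    refine (Finsupp.sum_smul_index' (b := c) (g := f.coeff) (h := fun (n : ℤ) (r : R) => if p n then r else 0) fun n => ite_self 0).trans ?_
    refine Finsupp.sum_congr fun n _ => ?_
    split <;> simp

theorem psum_single (p : ℤ → Prop) [DecidablePred p] (n : ℤ) (r : R) :
    psum k R p (AddMonoidAlgebra.single n r) = if p n then r else 0 := by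
  show (AddMonoidAlgebra.single n r : R[T;T⁻¹]).coeff.sum (fun m s => if p m then s else 0) = _
  rw [AddMonoidAlgebra.coeff_single, Finsupp.sum_single_index]
  simp

theorem map_psum {q : R →ₐ[k] R₀} (p : ℤ → Prop) [DecidablePred p] {f : R[T;T⁻¹]}
    (hf : AddMonoidAlgebra.mapAlgHom ℤ q f = 0) : q (psum k R p f) = 0 := by
  show q (f.coeff.sum fun m s => if p m then s else 0) = 0
  rw [map_finsuppSum]
  refine Finset.sum_eq_zero fun n _ => ?_
  dsimp only
  split
  · rw [← AddMonoidAlgebra.coeff_mapAlgHom, hf]; rfl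
  · exact map_zero q

theorem eq_single_of_coeff {f : R[T;T⁻¹]} {n : ℤ} {r : R} (h : ∀ m, f.coeff m = if m = n then r else 0) :
    f = AddMonoidAlgebra.single n r := by
  ext m
  rw [h, AddMonoidAlgebra.coeff_single, Finsupp.single_apply]
  simp [eq_comm]

theorem post_conj_eq_one {q : R →ₐ[k] R₀} {x : WithConv (A →ₐ[k] R)} (hx : post q x = 1) :
    post (AddMonoidAlgebra.mapAlgHom ℤ q) (conjHom lam R x) = 1 := by
  rw [conjHom_natural, hx, map_one]

/-- A kernel point splits along any set of weights. -/
theorem exists_split {q : R →ₐ[k] R₀} (hq : SqZero q) (p : ℤ → Prop) [DecidablePred p]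
    {x : WithConv (A →ₐ[k] R)} (hx : post q x = 1) :
    ∃ y : WithConv (A →ₐ[k] R), post q y = 1 ∧
      ∀ n a, dlt y (wpr lam n a) = if p n then dlt x (wpr lam n a) else 0 := by
  obtain ⟨y, hy, hd⟩ := exists_near hq.mapAlgHom hq (psum k R p) (fun r hr => map_psum p hr) (post_conj_eq_one lam hx)
  refine ⟨y, hy, fun n a => ?_⟩
  rw [hd, eq_single_of_coeff (f := dlt (conjHom lam R x) (wpr lam n a)) (n := n) (r := dlt x (wpr lam n a)), psum_single]
  intro m
  rw [coeff_dlt_conj, wpr_wpr]
  split
  · rfl
  · exact map_zero _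

/-- Coefficientwise criterion for orbits to be polynomial. -/
theorem mem_range_toL {x : WithConv (A →ₐ[k] R[T;T⁻¹])} (hx : ∀ a (n : ℤ), n < 0 → (x.ofConv a).coeff n = 0) :
    x ∈ (post (A := A) (toL k R)).range := by
  let e := AlgEquiv.ofInjective (toL k R) toL_injective
  let c : A →ₐ[k] (toL k R).range := x.ofConv.codRestrict (toL k R).range fun a => ⟨_, toLaurent_trunc _ (hx a)⟩
  refine ⟨toConv (e.symm.toAlgHom.comp c), ?_⟩
  apply WithConv.ofConv_injective
  ext a : 1
  exact congrArg Subtype.val (e.apply_symm_apply (c a))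

end Groth.Agent.DynSm
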