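import Groth.Agent.DynSm.Kern
import Mathlib.RingTheory.Smooth.Basic
import Mathlib.RingTheory.FinitePresentation

/-! Smoothness of the attracting subgroups of a smooth group. -/

set_option backward.isDefEq.respectTransparency false
set_option backward.isDefEq.respectTransparency.types false

universe u

open LaurentPolynomial TensorProduct WithConv

namespace Groth.Agent.DynSm

open DynLib

variable {k : Type u} [CommRing k] {A : Type u} [CommRing A] [HopfAlgebra k A] (lam : A →ₐc[k] k[T;T⁻¹])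

theorem limExists_iff_wpr {R : Type u} [CommRing R] [Algebra k R] (g : A →ₐ[k] R) :
    Dyn.LimExists k A lam R g ↔ ∀ a (n : ℤ), n < 0 → g (wpr lam n a) = 0 := by
  rw [DynLib.limExists_iff]
  refine forall_congr' fun a => forall_congr' fun n => imp_congr_right fun _ => ?_
  rw [DynLib.coeff_conjOrbit]
  rfl

theorem limIsOne_iff_wpr {R : Type u} [CommRing R] [Algebra k R] (g : A →ₐ[k] R) :
    Dyn.LimIsOne k A lam R g ↔ (∀ a (n : ℤ), n < 0 → g (wpr lam n a) = 0) ∧
      ∀ a, g (wpr lam 0 a) = algebraMap k R (Coalgebra.counit a) := by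
  rw [← limExists_iff_wpr]
  constructor
  · intro h
    obtain ⟨F, hF, hF0⟩ := h
    refine ⟨⟨F, hF⟩, fun a => ?_⟩
    have hk := (represents_idealU lam R g).mpr ⟨F, hF, hF0⟩ _
      (Ideal.mem_sup_right (Ideal.subset_span ⟨a, rfl⟩))
    rw [map_sub, AlgHom.commutes, sub_eq_zero] at hk
    exact hk
  · rintro ⟨h, h0⟩
    refine (represents_idealU lam R g).mp fun x hx => ?_
    have hle : idealU lam ≤ RingHom.ker g := by
      refine sup_le (fun y hy => (represents_idealP lam R g).mpr h y hy) ?_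
      rw [Ideal.span_le]
      rintro _ ⟨a, rfl⟩
      rw [SetLike.mem_coe, RingHom.mem_ker, map_sub, AlgHom.commutes, sub_eq_zero]
      exact h0 a
    exact hle hx

theorem eq_of_represents {J J' : Ideal A} {P : ∀ (R : Type u) [CommRing R] [Algebra k R], (A →ₐ[k] R) → Prop}
    (hJ : Dyn.Represents k A J P) (hJ' : Dyn.Represents k A J' P) : J = J' := by
  refine le_antisymm ?_ ?_ <;> intro a ha
  · exact Ideal.Quotient.eq_zero_iff_mem.mp ((hJ _ (Ideal.Quotient.mkₐ k J')).mpr
      ((hJ' _ _).mp fun x hx => Ideal.Quotient.eq_zero_iff_mem.mpr hx) a ha)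
  · exact Ideal.Quotient.eq_zero_iff_mem.mp ((hJ' _ (Ideal.Quotient.mkₐ k J)).mpr
      ((hJ _ _).mp fun x hx => Ideal.Quotient.eq_zero_iff_mem.mpr hx) a ha)

theorem fg_idealP [Algebra.FiniteType k A] : (idealP lam).FG := by
  classical
  obtain ⟨G, hG⟩ := (Algebra.FiniteType.out : (⊤ : Subalgebra k A).FG)
  let S : Finset A := G.biUnion fun x => (((orbit lam x).coeff.support.filter fun n => n < 0)).image fun n => wpr lam n x
  refine ⟨S, le_antisymm (Ideal.span_le.mpr fun y hy => ?_) fun y hy => ?_⟩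
  · obtain ⟨x, -, hy⟩ := Finset.mem_biUnion.mp hy
    obtain ⟨n, hn, rfl⟩ := Finset.mem_image.mp hy
    exact Ideal.subset_span ⟨x, n, (Finset.mem_filter.mp hn).2, rfl⟩
  · let q : A →ₐ[k] A ⧸ Ideal.span (S : Set A) := Ideal.Quotient.mkₐ k _
    have h : Dyn.LimExists k A lam _ q := by
      rw [DynLib.limExists_iff]
      have hr : (⊤ : Subalgebra k A) ≤ (toL k (A ⧸ Ideal.span (S : Set A))).range.comap (Dyn.conjOrbit k A lam _ q) := by
        rw [← hG, Algebra.adjoin_le_iff]
        intro x hx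
        refine ⟨_, toLaurent_trunc _ fun n hn => ?_⟩
        show (Dyn.conjOrbit k A lam _ q x).coeff n = 0
        rw [DynLib.coeff_conjOrbit]
        by_cases hs : n ∈ (orbit lam x).coeff.support
        · exact Ideal.Quotient.eq_zero_iff_mem.mpr (Ideal.subset_span (Finset.mem_biUnion.mpr
            ⟨x, hx, Finset.mem_image.mpr ⟨n, Finset.mem_filter.mpr ⟨hs, hn⟩, rfl⟩⟩))
        · rw [Finsupp.notMem_support_iff.mp hs, map_zero]
      intro a n hn
      obtain ⟨p, hp⟩ := hr (Algebra.mem_top (x := a))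
      rw [show Dyn.conjOrbit k A lam _ q a = _ from hp.symm]
      exact coeff_toLaurent_neg p hn
    exact Ideal.Quotient.eq_zero_iff_mem.mp ((represents_idealP lam _ q).mpr h y hy)

theorem fg_idealU [Algebra.FiniteType k A] : (idealU lam).FG := by
  classical
  obtain ⟨G, hG⟩ := (Algebra.FiniteType.out : (⊤ : Subalgebra k A).FG)
  obtain ⟨S, hS⟩ := fg_idealP lam
  let T : Finset A := G.image fun x => wpr lam 0 x - algebraMap k A (Coalgebra.counit x)
  refine ⟨S ∪ T, le_antisymm (Ideal.span_le.mpr fun y hy => ?_) fun y hy => ?_⟩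
  · rcases Finset.mem_union.mp hy with hy | hy
    · exact Ideal.mem_sup_left (hS ▸ Submodule.subset_span hy)
    · obtain ⟨x, -, rfl⟩ := Finset.mem_image.mp hy
      exact Ideal.mem_sup_right (Ideal.subset_span ⟨x, rfl⟩)
  · let q : A →ₐ[k] A ⧸ Ideal.span ((S ∪ T : Finset A) : Set A) := Ideal.Quotient.mkₐ k _
    have hP : Dyn.LimExists k A lam _ q := (represents_idealP lam _ q).mp fun z hz => by
      rw [← hS] at hz
      exact Ideal.Quotient.eq_zero_iff_mem.mpr (Ideal.span_mono (Finset.coe_subset.mpr Finset.subset_union_left) hz)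
    obtain ⟨F, hF⟩ := hP
    have h : Dyn.LimIsOne k A lam _ q := by
      refine ⟨F, hF, AlgHom.ext_of_adjoin_eq_top hG fun x hx => ?_⟩
      have h1 : (Polynomial.toLaurent (F x)).coeff ((0 : ℕ) : ℤ) = (F x).coeff 0 := coeff_toLaurent_natCast _ 0
      have h2 : Polynomial.toLaurent (F x) = Dyn.conjOrbit k A lam _ q x := DFunLike.congr_fun hF x
      rw [h2, DynLib.coeff_conjOrbit] at h1
      simp only [AlgHom.comp_apply, AlgHom.coe_restrictScalars', Algebra.ofId_apply,
        Bialgebra.counitAlgHom_apply, Polynomial.aeval_def, Polynomial.eval₂_at_zero]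
      refine (show (F x).coeff 0 = _ from h1.symm).trans ?_
      have h3 : q (wpr lam 0 x - algebraMap k A (Coalgebra.counit x)) = 0 := Ideal.Quotient.eq_zero_iff_mem.mpr
        (Ideal.subset_span (Finset.mem_coe.mpr (Finset.mem_union_right S (Finset.mem_image.mpr ⟨x, hx, rfl⟩))))
      rw [map_sub, AlgHom.commutes, sub_eq_zero] at h3
      exact h3
    exact Ideal.Quotient.eq_zero_iff_mem.mp ((represents_idealU lam _ q).mpr h y hy)

theorem coeff_psi {R : Type u} [CommRing R] [Algebra k R] (p : R[T;T⁻¹]) (n m : ℤ) :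
    ((psi k R p).coeff n).coeff m = if m = n then p.coeff n else 0 := by
  induction p using AddMonoidAlgebra.induction_linear with
  | zero => simp
  | add p q hp hq => simp only [map_add, AddMonoidAlgebra.coeff_add, Finsupp.add_apply, hp, hq]; split <;> simp
  | single l r =>
    rw [psi_single]
    simp only [AddMonoidAlgebra.coeff_single, Finsupp.single_apply]
    split_ifs <;> simp_all [Finsupp.single_apply, -LaurentPolynomial.single_eq_C_mul_T]

theorem post_post {C D E : Type u} [CommRing C] [Algebra k C] [CommRing D] [Algebra k D] [CommRing E] [Algebra k E]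
    (φ : C →ₐ[k] D) (χ : D →ₐ[k] E) (x : WithConv (A →ₐ[k] C)) : post χ (post φ x) = post (χ.comp φ) x :=
  congrArg toConv (AlgHom.comp_assoc χ φ x.ofConv).symm

theorem equivariance {R R₀ : Type u} [CommRing R] [Algebra k R] [CommRing R₀] [Algebra k R₀] {q : R →ₐ[k] R₀}
    (hq : SqZero q) (g : WithConv (A →ₐ[k] R)) (F : WithConv (A →ₐ[k] Polynomial R))
    (hη1 : post (AddMonoidAlgebra.mapAlgHom ℤ q) (conjHom lam R g * (post (toL k R) F)⁻¹) = 1) :
    ∀ n m a, m < 0 → (dlt (conjHom lam R g * (post (toL k R) F)⁻¹) (wpr lam n a)).coeff m =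
      if m = n then (dlt (conjHom lam R g * (post (toL k R) F)⁻¹) a).coeff m else 0 := by
  intro n m a hm
  let H := post (toL k R) F
  let h := conjHom lam R g
  let qL : R[T;T⁻¹] →ₐ[k] R₀[T;T⁻¹] := AddMonoidAlgebra.mapAlgHom ℤ q
  change post qL (h * H⁻¹) = 1 at hη1
  show (dlt (h * H⁻¹) (wpr lam n a)).coeff m = if m = n then (dlt (h * H⁻¹) a).coeff m else 0
  obtain ⟨η, hη⟩ : ∃ η, η = h * H⁻¹ := ⟨_, rfl⟩
  rw [← hη] at hη1 ⊢
  let qLL : R[T;T⁻¹][T;T⁻¹] →ₐ[k] R₀[T;T⁻¹][T;T⁻¹] := AddMonoidAlgebra.mapAlgHom ℤ qL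
  let κ := post (psi k R) H * (conjHom lam R[T;T⁻¹] H)⁻¹
  have hxy : conjHom lam R[T;T⁻¹] η = post (psi k R) η * κ := by
    rw [hη, map_mul, map_inv, map_mul, map_inv, show conjHom lam R[T;T⁻¹] h = post (psi k R) h from
      (post_psi_conjHom lam g).symm]
    have e : ∀ {G : Type u} [Group G] (a b c : G), a * c⁻¹ = a * b⁻¹ * (b * c⁻¹) := fun a b c => by
      simp [mul_assoc]
    exact e (G := WithConv (A →ₐ[k] R[T;T⁻¹][T;T⁻¹])) _ _ _
  have hpsi : (qLL.comp (psi k R)) = (psi k R₀).comp qL := by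
    refine AlgHom.ext fun p => ?_
    induction p using AddMonoidAlgebra.induction_linear with
    | zero => simp
    | add p p' hp hp' => simp only [map_add, hp, hp']
    | single l r => simp only [qLL, qL, AlgHom.comp_apply, psi_single, mapAlgHom_single']
  have hy1 : post (D := R₀[T;T⁻¹][T;T⁻¹]) qLL (post (psi k R) η) = 1 := by rw [post_post, hpsi, ← post_post, hη1, map_one]
  have hx1 : post (D := R₀[T;T⁻¹][T;T⁻¹]) qLL (conjHom lam R[T;T⁻¹] η) = 1 := post_conj_eq_one lam hη1
  have hκ1 : post (D := R₀[T;T⁻¹][T;T⁻¹]) qLL κ = 1 := by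
    have h2 := hx1
    rw [hxy, map_mul, hy1] at h2
    exact (one_mul _).symm.trans h2
  have hκr : ∃ c : WithConv (A →ₐ[k] (Polynomial R)[T;T⁻¹]),
      post (A := A) (D := R[T;T⁻¹][T;T⁻¹]) (AddMonoidAlgebra.mapAlgHom ℤ (toL k R)) c = κ := by
    refine ⟨post (psi' k R) F * (conjHom lam (Polynomial R) F)⁻¹, ?_⟩
    rw [map_mul, map_inv]
    refine congrArg₂ (fun u v => u * v⁻¹) ?_ (conjHom_natural lam (toL k R) F)
    rw [post_post, show H = post (toL k R) F from rfl, post_post]
    refine congrArg (fun φ => post (A := A) φ F) ?_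
    refine polyHom_ext (fun r => ?_) ?_
    · rw [AlgHom.comp_apply, AlgHom.comp_apply, psi'_C, mapAlgHom_single']
      simp only [AlgHom.restrictScalars_apply, Polynomial.toLaurentAlg_apply, Polynomial.toLaurent_C]
      exact (psi_single (k := k) 0 r).symm
    · rw [AlgHom.comp_apply, AlgHom.comp_apply, psi'_X, mapAlgHom_single']
      simp only [AlgHom.restrictScalars_apply, Polynomial.toLaurentAlg_apply, Polynomial.toLaurent_X]
      exact (psi_single (k := k) 1 (1 : R)).symm
  have hκ0 : ((dlt κ a).coeff n).coeff m = 0 := by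
    obtain ⟨c, hc⟩ := hκr
    rw [← hc, dlt_apply]
    simp only [AddMonoidAlgebra.coeff_sub, Finsupp.sub_apply, coeff_algebraMap]
    have e : (((post (AddMonoidAlgebra.mapAlgHom ℤ (toL k R)) c).ofConv a).coeff n).coeff m = 0 := by
      show ((AddMonoidAlgebra.mapAlgHom ℤ (toL k R) (c.ofConv a)).coeff n).coeff m = 0
      rw [AddMonoidAlgebra.coeff_mapAlgHom]
      exact coeff_toLaurent_neg _ hm
    rw [e]
    split
    · rw [coeff_algebraMap, if_neg hm.ne]; simp
    · simp
  have h1 := congrArg (fun z => (z.coeff n).coeff m) (dlt_mul hq.mapAlgHom.mapAlgHom hy1 hκ1 a)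
  rw [← hxy] at h1
  simp only [AddMonoidAlgebra.coeff_add, Finsupp.add_apply, hκ0, add_zero, coeff_dlt_conj] at h1
  rw [h1, dlt_apply, dlt_apply]
  simp only [AddMonoidAlgebra.coeff_sub, Finsupp.sub_apply, coeff_algebraMap]
  show ((psi k R (η.ofConv a)).coeff n).coeff m - _ = _
  rw [coeff_psi]
  by_cases hmn : m = n
  · subst hmn; simp [hm.ne, coeff_algebraMap]
  · by_cases hn : n = 0
    · subst hn; simp [hm.ne, hmn, coeff_algebraMap]
    · simp [hn, hmn]

/-- A lift in the group can be moved into the attracting subgroup. -/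
theorem exists_limExists_lift [Algebra.FormallySmooth k A] {R : Type u} [CommRing R] [Algebra k R] (I : Ideal R)
    (hI : I ^ 2 = ⊥) (g₀ : A →ₐ[k] R ⧸ I) (h₀ : Dyn.LimExists k A lam _ g₀) :
    ∃ g : A →ₐ[k] R, Dyn.LimExists k A lam R g ∧ (Ideal.Quotient.mkₐ k I).comp g = g₀ := by
  let q := Ideal.Quotient.mkₐ k I
  have hq : SqZero q := fun x y hx hy => by
    rw [← Submodule.mem_bot R, ← hI, pow_two]
    exact Ideal.mul_mem_mul (Ideal.Quotient.eq_zero_iff_mem.mp hx) (Ideal.Quotient.eq_zero_iff_mem.mp hy)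
  obtain ⟨g, hg⟩ := Algebra.FormallySmooth.comp_surjective k A I hI g₀
  obtain ⟨F₀, hF₀⟩ := h₀
  -- lift the polynomial limit
  let qP : Polynomial R →ₐ[k] Polynomial (R ⧸ I) := Polynomial.mapAlgHom q
  have hqP : Function.Surjective qP := Polynomial.map_surjective _ Ideal.Quotient.mk_surjective
  have hker : RingHom.ker qP ^ 2 = ⊥ := by
    have hk : RingHom.ker qP = I.map Polynomial.C := by
      refine Eq.trans (Polynomial.ker_mapRingHom (Ideal.Quotient.mk I)) ?_
      rw [Ideal.mk_ker]
    rw [hk, ← Ideal.map_pow, hI, Ideal.map_bot]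
  let eP := Ideal.quotientKerAlgEquivOfSurjective hqP
  obtain ⟨F, hF⟩ := Algebra.FormallySmooth.comp_surjective k A (RingHom.ker qP) hker (eP.symm.toAlgHom.comp F₀)
  have hFq : qP.comp F = F₀ := by
    refine AlgHom.ext fun a => ?_
    have h := congrArg eP (DFunLike.congr_fun hF a)
    simp only [AlgHom.comp_apply, AlgEquiv.coe_toAlgHom, AlgEquiv.apply_symm_apply] at h
    exact h
  let h := conjHom lam R (toConv g)
  let H : WithConv (A →ₐ[k] R[T;T⁻¹]) := post (toL k R) (toConv F)
  let qL : R[T;T⁻¹] →ₐ[k] (R ⧸ I)[T;T⁻¹] := AddMonoidAlgebra.mapAlgHom ℤ q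
  have hnat : qL.comp (toL k R) = (toL k (R ⧸ I)).comp qP := by
    refine polyHom_ext (fun r => ?_) ?_
    · simp only [AlgHom.comp_apply, AlgHom.restrictScalars_apply, Polynomial.toLaurentAlg_apply, Polynomial.toLaurent_C,
        qP, qL, Polynomial.coe_mapAlgHom, Polynomial.map_C, ← LaurentPolynomial.single_eq_C]
      exact mapAlgHom_single' q 0 r
    · simp only [AlgHom.comp_apply, AlgHom.restrictScalars_apply, Polynomial.toLaurentAlg_apply, Polynomial.toLaurent_X,
        qP, qL, Polynomial.coe_mapAlgHom, Polynomial.map_X]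
      exact (mapAlgHom_single' q 1 (1 : R)).trans (by rw [map_one]; rfl)
  have hH : post qL H = post qL h := by
    rw [conjHom_natural, show post q (toConv g) = toConv g₀ from congrArg toConv hg, ← toConv_conjOrbit, ← hF₀, post_post,
      hnat, ← post_post, show post qP (toConv F) = toConv F₀ from congrArg toConv hFq]
    rfl
  set η := h * H⁻¹ with hη
  have hη1 : post qL η = 1 := by rw [map_mul, map_inv, hH, mul_inv_cancel]
  have hequiv := equivariance lam hq (toConv g) (toConv F) hη1
  obtain ⟨y, hy1, hyd⟩ := exists_near hq.mapAlgHom hq (- psum k R (fun m => m < 0))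
    (fun r hr => by rw [LinearMap.neg_apply, map_neg, map_psum _ hr, neg_zero]) hη1
  refine ⟨(y * toConv g).ofConv, ?_, ?_⟩
  · rw [limExists_iff_range, toConv_ofConv, map_mul,
      show conjHom lam R (toConv g) = η * H by simp [hη, h], ← mul_assoc]
    refine Subgroup.mul_mem _ (mem_range_toL fun a m hm => ?_) ⟨_, rfl⟩
    have h0 : (dlt (conjHom lam R y * η) a).coeff m = 0 := by
      rw [dlt_mul hq.mapAlgHom (post_conj_eq_one lam hy1) hη1, AddMonoidAlgebra.coeff_add, Finsupp.add_apply,
        coeff_dlt_conj, hyd, LinearMap.neg_apply,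
        show psum k R (fun m => m < 0) (dlt η (wpr lam m a)) = (dlt η a).coeff m from ?_, neg_add_cancel]
      have e : ∀ j, j < 0 → (dlt η (wpr lam m a)).coeff j = if j = m then (dlt η a).coeff m else 0 := fun j hj => by
        rw [hequiv m j a hj]
        split
        · next h => rw [h]
        · rfl
      show (dlt η (wpr lam m a)).coeff.sum (fun j r => if j < 0 then r else 0) = _
      rw [Finsupp.sum, Finset.sum_eq_single m]
      · rw [if_pos hm, e m hm, if_pos rfl]
      · intro j _ hj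
        split
        · next h => rw [e j h, if_neg hj]
        · rfl
      · intro hnm
        rw [if_pos hm, Finsupp.notMem_support_iff.mp hnm]
    rw [dlt_apply, AddMonoidAlgebra.coeff_sub, Finsupp.sub_apply, coeff_algebraMap, if_neg hm.ne, sub_zero] at h0
    exact h0
  · have : post q (y * toConv g) = toConv g₀ := by rw [map_mul, hy1, one_mul]; exact congrArg toConv hg
    exact congrArg WithConv.ofConv this

/-- A lift in the attracting subgroup can be moved into the subgroup of points tending to one. -/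
theorem exists_limIsOne_lift [Algebra.FormallySmooth k A] {R : Type u} [CommRing R] [Algebra k R] (I : Ideal R)
    (hI : I ^ 2 = ⊥) (g₀ : A →ₐ[k] R ⧸ I) (h₀ : Dyn.LimIsOne k A lam _ g₀) :
    ∃ g : A →ₐ[k] R, Dyn.LimIsOne k A lam R g ∧ (Ideal.Quotient.mkₐ k I).comp g = g₀ := by
  let q := Ideal.Quotient.mkₐ k I
  obtain ⟨F₀, hF₀, hF₀1⟩ := h₀
  obtain ⟨g, hg, hgq⟩ := exists_limExists_lift lam I hI g₀ ⟨F₀, hF₀⟩
  obtain ⟨F, hF⟩ := (limExists_iff_range lam g).mp hg
  let z := post (ev0 k R) F
  let polyC : R →ₐ[k] Polynomial R := IsScalarTower.toAlgHom k R (Polynomial R)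
  have hz : post q z = 1 := by
    let qP : Polynomial R →ₐ[k] Polynomial (R ⧸ I) := Polynomial.mapAlgHom q
    have e : post qP F = toConv F₀ := by
      have h1 : post (toL k (R ⧸ I)) (post qP F) = post (toL k (R ⧸ I)) (toConv F₀) := by
        conv_rhs => rw [post_apply, hF₀, toConv_conjOrbit, ← hgq, show toConv ((Ideal.Quotient.mkₐ k I).comp g) = post q (toConv g) from rfl, ← conjHom_natural, ← hF, post_post]
        rw [post_post]
        refine congrArg (fun φ => post (A := A) φ F) ?_
        refine polyHom_ext (fun r => ?_) ?_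
        · simp only [AlgHom.comp_apply, AlgHom.restrictScalars_apply, Polynomial.toLaurentAlg_apply, Polynomial.toLaurent_C,
            qP, Polynomial.coe_mapAlgHom, Polynomial.map_C, ← LaurentPolynomial.single_eq_C]
          exact (mapAlgHom_single' q 0 r).symm
        · simp only [AlgHom.comp_apply, AlgHom.restrictScalars_apply, Polynomial.toLaurentAlg_apply, Polynomial.toLaurent_X,
            qP, Polynomial.coe_mapAlgHom, Polynomial.map_X]
          exact ((mapAlgHom_single' q 1 (1 : R)).trans (by rw [map_one]; rfl)).symm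
      apply WithConv.ofConv_injective
      ext a : 1
      exact toL_injective (k := k) (congrArg (fun p : WithConv (A →ₐ[k] (R ⧸ I)[T;T⁻¹]) => p.ofConv a) h1)
    have e2 : q.comp (ev0 k R) = (ev0 k (R ⧸ I)).comp qP := by
      refine polyHom_ext (fun r => ?_) ?_
      · simp [qP]
      · simp [qP]
    rw [show z = post (ev0 k R) F from rfl, post_post, e2, ← post_post, e, post_apply]
    apply WithConv.ofConv_injective
    rw [ofConv_toConv, hF₀1]
    ext a
    simp [AlgHom.convOne_apply]
  refine ⟨(z⁻¹ * toConv g).ofConv, ?_, ?_⟩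
  · rw [limIsOne_iff, toConv_ofConv]
    have hev : post (ev0 k R) (post polyC z) = z := by
      apply WithConv.ofConv_injective
      ext a
      simp [post, polyC]
    have hL : post (toL k R) (post polyC z) = post (con k R) z := by
      apply WithConv.ofConv_injective
      ext a : 1
      simp [post, polyC, LaurentPolynomial.algebraMap_apply]
    refine ⟨(post polyC z)⁻¹ * F, ?_, ?_⟩
    · rw [map_mul, map_inv, hL, hF, map_mul, map_inv, conjHom_lim lam hF]
    · rw [map_mul, map_inv, hev]
      exact inv_mul_cancel z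
  · have : post q (z⁻¹ * toConv g) = toConv g₀ := by
      rw [map_mul, map_inv, hz, inv_one, one_mul, post_apply, hgq]
    exact congrArg WithConv.ofConv this

theorem formallySmooth_quotient {J : Ideal A} {P : ∀ (R : Type u) [CommRing R] [Algebra k R], (A →ₐ[k] R) → Prop}
    (hJ : Dyn.Represents k A J P) (hlift : ∀ (R : Type u) [CommRing R] [Algebra k R] (I : Ideal R), I ^ 2 = ⊥ →
      ∀ g₀ : A →ₐ[k] R ⧸ I, P _ g₀ → ∃ g : A →ₐ[k] R, P R g ∧ (Ideal.Quotient.mkₐ k I).comp g = g₀) :
    Algebra.FormallySmooth k (A ⧸ J) := by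
  refine Algebra.FormallySmooth.of_comp_surjective fun B _ _ I hI f => ?_
  obtain ⟨g, hg, hgf⟩ := hlift B I hI (f.comp (Ideal.Quotient.mkₐ k J))
    ((hJ _ _).mp fun a ha => by simp [Ideal.Quotient.eq_zero_iff_mem.mpr ha])
  refine ⟨Ideal.Quotient.liftₐ J g ((hJ _ g).mpr hg), ?_⟩
  refine (AlgHom.cancel_right (Ideal.Quotient.mkₐ_surjective k J)).mp ?_
  rw [← hgf]
  ext a
  simp

theorem smooth_quotient [Algebra.Smooth k A] (Jp Ju : Ideal A)
    (hp : Dyn.Represents k A Jp (fun R _ _ g => Dyn.LimExists k A lam R g))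
    (hu : Dyn.Represents k A Ju (fun R _ _ g => Dyn.LimIsOne k A lam R g)) :
    Algebra.Smooth k (A ⧸ Jp) ∧ Algebra.Smooth k (A ⧸ Ju) := by
  refine ⟨⟨formallySmooth_quotient hp fun R _ _ I hI g₀ h₀ => exists_limExists_lift lam I hI g₀ h₀, ?_⟩,
    ⟨formallySmooth_quotient hu fun R _ _ I hI g₀ h₀ => exists_limIsOne_lift lam I hI g₀ h₀, ?_⟩⟩
  · rw [eq_of_represents hp (represents_idealP lam)]
    exact Algebra.FinitePresentation.quotient (fg_idealP lam)
  · rw [eq_of_represents hu (represents_idealU lam)]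
    exact Algebra.FinitePresentation.quotient (fg_idealU lam)

end Groth.Agent.DynSm
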